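import Cfsg.Agent.H893.S8.JTwoOutOf
import Cfsg.Agent.H678.S8.JTwoFourteen

/-!
# S4908, `J₂` : the piece OUT (helper893, with helper678's degree 14)
-/

set_option autoImplicit false

namespace Cfsg.Agent.H893.S8.JTwoOut

open Cfsg
open Cfsg.Agent.H704.S8 (OutRow3)

universe v

/-- **S4908, `J₂`, the field OUT** -/
theorem out_j2 {X : Type v} [Group X] (h : Spor.IsoJ2 X) : OutRow3 2 X :=
  out_of H678.S8.JTwo.deg_14 h

/-- The degree 14 is not a degree of `Aut J₂`. -/
theorem charDegrees_ne {X : Type v} [Group X] (h : Spor.IsoJ2 X) : charDegrees X ≠ charDegrees (MulAut X) :=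
  (out_j2 h).2 rfl

end Cfsg.Agent.H893.S8.JTwoOut
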