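import Cfsg.Agent.H409.S8.JTwoDeg
import Cfsg.Agent.H269.CubeJ2
import Cfsg.Agent.H469.S8.J3Out
import Cfsg.Agent.S2066
import Cfsg.Agent.H704.S8.Defs3

/-!
# S4908, `J₂` : the piece OUT, local part (helper893)

An irreducible character of degree 14 of `J₂` is not invariant under the outer automorphism: the value at the central
involutions is `-2` (helper409's conditions), the outer automorphism interchanges the two classes of elements of order 10
with centralizers of order 10 and the two classes of elements of order 5 with centralizers of order 50; the values `q`,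
`y` would be integers with `q ≡ -2 (mod 5)`, `q ≡ y (mod 2)`, `y ≡ -1 (mod 5)` and `q² / 5 + y² / 25 ≤ 1`.
-/

set_option autoImplicit false
set_option maxRecDepth 100000

open Cfsg Cfsg.Agent.Characters Cfsg.Agent.H732.VZ Cfsg.Agent.H604.OZ

namespace Cfsg.Agent.H893.S8.JTwoOut

open Cfsg.Agent.H1 Cfsg.Agent.SporadicA.J2Hundred Cfsg.Agent.SporadicA.J2Data Cfsg.Agent.SporadicA.PermTab
  Cfsg.Agent.J2.HundredGens Cfsg.Agent.H1.J2Cls
  Cfsg.Agent.H1.J2Cover Cfsg.Agent.H121.OZ.JTwoCls Cfsg.Agent.H121.OZ.JTwo Cfsg.Agent.H121.OZ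

variable {χ : IrrCharacter G}

/-- **Local conditions** (the proof of helper409, with the value named). -/
theorem key (hne : (χ : G → ℂ) ≠ 1) : ∃ v : ℤ, (χ : G → ℂ) (gw (rL (1 : Fin 21))) = v ∧
    |v| < (charDegree (χ : G → ℂ) : ℤ) ∧
    (16 : ℤ) ∣ (charDegree (χ : G → ℂ) : ℤ) - v ∧ 0 ≤ (charDegree (χ : G → ℂ) : ℤ) + 3 * v ∧
    (charDegree (χ : G → ℂ) : ℤ) ∣ 315 * v := by
  classical
  have hs := simple
  have hcf := Core.isIrr_isClassFunction χ.2
  have hχ := Core.isIrr_isCharacter χ.2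
  have h1 : (χ : G → ℂ) 1 = (charDegree (χ : G → ℂ) : ℂ) := (H686.CharKit.charDegree_irr χ).symm
  obtain ⟨o8, -⟩ := rep 5
  have o8' : orderOf (gw (rL (5 : Fin 21))) = 8 := by rw [o8]; decide +kernel
  set e : G := gw (rL (5 : Fin 21)) with he
  have hratA : ∀ m : ℕ, m.Coprime (Nat.card G) → IsConj (gw wa ^ m) (gw wa) := fun m hm =>
    conj_four (by rw [order_pow hm, oa]) oa
  have hratE : ∀ m : ℕ, m.Coprime (Nat.card G) → IsConj (e ^ m) e := fun m hm =>
    conj_of_order 5 (by decide +kernel) (by rw [order_pow hm, o8]) o8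
  obtain ⟨w, hw⟩ := H849.OZ.rat (χ := χ) hratA
  obtain ⟨u, hu⟩ := H849.OZ.rat (χ := χ) hratE
  obtain ⟨v, hv, hlt, hv4⟩ := SmallSimple.InvolColumn.exists_int commutator_eq χ.2 hne (t := gw wa ^ 2)
    (by rw [← pow_mul]; exact a4) a2
  have hdvd := H849.OZ.rat_dvd_deg (χ := χ) (gw wa ^ 2) hv
  rw [H409.S8.JTwo.index_z] at hdvd
  have hval : ∀ {g h : G}, IsConj g h → (χ : G → ℂ) h = (χ : G → ℂ) g := fun h =>
    (Core.classFunction_apply_eq hcf h).symm
  generalize charDegree (χ : G → ℂ) = d at *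
  -- `C₄ × C₄`
  obtain ⟨k, hk⟩ := sum_pow_pow hχ ab_comm oa ob
  have hterm : ∀ i j : Fin 4, (χ : G → ℂ) (gw wa ^ (i : ℕ) * gw wb ^ (j : ℕ)) =
      (((if (i : ℕ) % 2 = 0 ∧ (j : ℕ) % 2 = 0 then (if (i : ℕ) = 0 ∧ (j : ℕ) = 0 then (d : ℤ) else v) else w : ℤ)) : ℂ) := by
    intro i j
    have h2 := ab_pow i.2 j.2
    by_cases h3 : (i : ℕ) % 2 = 0 ∧ (j : ℕ) % 2 = 0
    · rw [if_pos h3]
      by_cases h4 : (i : ℕ) = 0 ∧ (j : ℕ) = 0
      · rw [if_pos h4, h4.1, h4.2, pow_zero, pow_zero, one_mul, h1]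
        norm_num
      · rw [if_neg h4, hval (h2.1 h3 h4), hv]
    · rw [if_neg h3, hval (h2.2 h3), hw]
  rw [Finset.sum_congr rfl fun i _ => Finset.sum_congr rfl fun j _ => hterm i j] at hk
  have hk' : (d + 3 * v + 12 * w : ℤ) = 16 * k := by
    have h2 : (∑ i : Fin 4, ∑ j : Fin 4,
        (if (i : ℕ) % 2 = 0 ∧ (j : ℕ) % 2 = 0 then (if (i : ℕ) = 0 ∧ (j : ℕ) = 0 then (d : ℤ) else v) else w : ℤ)) =
        d + 3 * v + 12 * w := by
      simp [Fin.sum_univ_four]
      ring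
    rw [← h2]
    have h3 : ((4 : ℕ) : ℂ) * ((4 : ℕ) : ℂ) * (k : ℂ) = ((16 * k : ℤ) : ℂ) := by push_cast; ring
    rw [h3] at hk
    exact_mod_cast hk
  -- the four-group
  have o2a : orderOf (gw wa ^ 2) = 2 := by
    rw [orderOf_pow' _ (by norm_num), oa]; norm_num
  have o2b : orderOf (gw wb ^ 2) = 2 := by
    rw [orderOf_pow' _ (by norm_num), ob]; norm_num
  obtain ⟨k2, hk2⟩ := sum_pow_pow hχ (ab_comm.pow_pow 2 2) o2a o2b
  have hpos : 0 ≤ (d : ℤ) + 3 * v := by
    have e00 : (χ : G → ℂ) ((gw wa ^ 2) ^ 0 * (gw wb ^ 2) ^ 0) = d := by rw [pow_zero, pow_zero, one_mul, h1]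
    have e10 : (χ : G → ℂ) ((gw wa ^ 2) ^ 1 * (gw wb ^ 2) ^ 0) = v := by
      rw [pow_zero, pow_one, mul_one, hv]
    have e01 : (χ : G → ℂ) ((gw wa ^ 2) ^ 0 * (gw wb ^ 2) ^ 1) = v := by
      have h2 := (ab_pow (i := 0) (j := 2) (by norm_num) (by norm_num)).1 (by decide) (by decide)
      rw [pow_zero, one_mul] at h2
      rw [pow_zero, pow_one, one_mul, hval h2, hv]
    have e11 : (χ : G → ℂ) ((gw wa ^ 2) ^ 1 * (gw wb ^ 2) ^ 1) = v := by
      have h2 := (ab_pow (i := 2) (j := 2) (by norm_num) (by norm_num)).1 (by decide) (by decide)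
      rw [pow_one, pow_one, hval h2, hv]
    rw [Fin.sum_univ_two, Fin.sum_univ_two, Fin.sum_univ_two] at hk2
    change (χ : G → ℂ) ((gw wa ^ 2) ^ 0 * (gw wb ^ 2) ^ 0) + (χ : G → ℂ) ((gw wa ^ 2) ^ 0 * (gw wb ^ 2) ^ 1) +
      ((χ : G → ℂ) ((gw wa ^ 2) ^ 1 * (gw wb ^ 2) ^ 0) + (χ : G → ℂ) ((gw wa ^ 2) ^ 1 * (gw wb ^ 2) ^ 1)) = _ at hk2
    rw [e00, e01, e10, e11] at hk2
    have h3 : ((d : ℤ) + 3 * v : ℤ) = 4 * k2 := by
      have h4 : (((d : ℤ) + 3 * v : ℤ) : ℂ) = ((4 * k2 : ℤ) : ℂ) := by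
        push_cast
        push_cast at hk2
        linear_combination hk2
      exact_mod_cast h4
    rw [h3]
    positivity
  -- `C₈`
  obtain ⟨l, hl⟩ := sum_pow_pow hχ (Commute.one_right e) o8' (orderOf_one)
  have c2 : IsConj (gw wa) (e ^ 2) := conj_four oa (by
    rw [orderOf_pow' e (by norm_num), o8']; norm_num)
  have c4 : IsConj (gw wa ^ 2) (e ^ 4) := by
    have h2 := H849.OZ.isConj_pow c2 2
    rwa [← pow_mul] at h2
  have c6 : IsConj (gw wa) (e ^ 6) := conj_four oa (by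
    rw [orderOf_pow' e (by norm_num), o8']; norm_num)
  have codd : ∀ m : ℕ, m.Coprime 8 → IsConj e (e ^ m) := fun m hm =>
    conj_of_order 5 (by decide +kernel) o8 (by
      rw [Nat.Coprime.orderOf_pow (by rw [o8']; exact hm.symm), o8])
  have hl' : (d + v + 2 * w + 4 * u : ℤ) = 8 * l := by
    simp only [one_pow, mul_one, Finset.sum_const, Finset.card_univ, Fintype.card_fin, one_smul] at hl
    rw [Fin.sum_univ_eight] at hl
    have q0 : (χ : G → ℂ) (e ^ ((0 : Fin 8) : ℕ)) = d := by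
      rw [show ((0 : Fin 8) : ℕ) = 0 from rfl, pow_zero, h1]
    have q1 : (χ : G → ℂ) (e ^ ((1 : Fin 8) : ℕ)) = u := by rw [hval (codd _ (by decide)), hu]
    have q2 : (χ : G → ℂ) (e ^ ((2 : Fin 8) : ℕ)) = w := by rw [← hw]; exact hval c2
    have q3 : (χ : G → ℂ) (e ^ ((3 : Fin 8) : ℕ)) = u := by rw [hval (codd _ (by decide)), hu]
    have q4 : (χ : G → ℂ) (e ^ ((4 : Fin 8) : ℕ)) = v := by rw [← hv]; exact hval c4
    have q5 : (χ : G → ℂ) (e ^ ((5 : Fin 8) : ℕ)) = u := by rw [hval (codd _ (by decide)), hu]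
    have q6 : (χ : G → ℂ) (e ^ ((6 : Fin 8) : ℕ)) = w := by rw [← hw]; exact hval c6
    have q7 : (χ : G → ℂ) (e ^ ((7 : Fin 8) : ℕ)) = u := by rw [hval (codd _ (by decide)), hu]
    rw [q0, q1, q2, q3, q4, q5, q6, q7] at hl
    have h3 : ((d + v + 2 * w + 4 * u : ℤ) : ℂ) = ((8 * l : ℤ) : ℂ) := by
      push_cast
      push_cast at hl
      linear_combination hl
    exact_mod_cast h3
  -- parity of `u`
  have hu2 : (2 : ℤ) ∣ u - d := by
    obtain ⟨M, hM⟩ := Blocks.ExistsModular.exists_isPModular Nat.prime_two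
    have h3 := H849.OZ.av_sub_mem (χ := χ) Nat.prime_two hM.2.1.isPrime hM.2.2 e (j := 0) (n := 3) (by
      rw [pow_zero, one_pow, show 2 ^ 3 = 8 from rfl, ← o8', pow_orderOf_eq_one])
    rw [pow_zero] at h3
    have h4 : av χ e - av χ (1 : G) = ((u - d : ℤ) : AlgInt) := by
      apply Subtype.ext
      rw [show ((av χ e - av χ (1 : G) : AlgInt) : ℂ) = (av χ e : ℂ) - (av χ (1 : G) : ℂ) from rfl, av_coe, av_coe, hu, h1]
      push_cast
      rfl
    rwa [h4, int_mem_iff Nat.prime_two hM.2.1.isPrime hM.2.2] at h3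
  refine ⟨v, by rw [← H409.S8.JTwo.a_sq]; exact hv, hlt, ?_, hpos, by exact_mod_cast hdvd⟩
  omega


/-! ### the outer automorphism -/

/-- conjugation by the odd automorphism of the graph -/
def sg : MulAut G := Cfsg.Agent.H269.CubeJ2.cj pT pT_mem

theorem pT_val (i : Fin 100) : ((pT i : Fin 100) : ℕ) = lk tT i := mkPerm_val tT tT iT i

theorem sg_conj {w w' g : List ℕ} (h : allB (fun i => Nat.beq (lk tT (run w i))
    (run g (run w' (run g.reverse (lk tT i))))) 100 = true) : IsConj (gw w') (sg (gw w)) := by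
  refine isConj_iff.2 ⟨gw g, Subtype.ext ?_⟩
  show pw g * pw w' * (pw g)⁻¹ = pT * pw w * pT⁻¹
  symm
  rw [mul_inv_eq_iff_eq_mul, ← pw_reverse]
  ext i
  rw [Equiv.Perm.mul_apply, pT_val, pw_val, Equiv.Perm.mul_apply, Equiv.Perm.mul_apply, Equiv.Perm.mul_apply, pw_val,
    pw_val, pw_val, pT_val]
  exact Nat.eq_of_beq_eq_true ((allB_iff _ _).1 h i i.2)

/-- the outer automorphism interchanges the classes 19 and 20 -/
theorem sg5 : IsConj (gw (rL (20 : Fin 21))) (sg (gw (rL (19 : Fin 21)))) :=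
  sg_conj (g := [2, 3, 1, 2, 3, 4, 2, 3, 1, 2, 3, 4, 2, 3, 1, 0, 1]) (by decide +kernel)

/-- the outer automorphism interchanges the classes 15 and 17 -/
theorem sg10 : IsConj (gw (rL (17 : Fin 21))) (sg (gw (rL (15 : Fin 21)))) :=
  sg_conj (g := [3, 4, 0, 1, 2, 3, 2, 1, 0, 1, 2, 3, 1]) (by decide +kernel)

/-- the square of an element of order 10 -/
theorem sq10 : gw (rL (15 : Fin 21)) ^ 2 = gw (rL (19 : Fin 21)) := by
  rw [pow_two_gw]
  exact chk_eq (by decide +kernel)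

/-- the involution in an element of order 10 -/
theorem pow10 : IsConj (gw (rL (1 : Fin 21))) (gw (rL (15 : Fin 21)) ^ 5) := by
  refine isConj_iff.2 ⟨gw [1, 0, 1, 2, 3, 4, 1, 2, 3, 2, 1, 0, 1], ?_⟩
  rw [mul_inv_eq_iff_eq_mul, show 5 = 2 * 2 + 1 from rfl, pow_succ, pow_mul, pow_two_gw, pow_two_gw, ← gw_append,
    ← gw_append, ← gw_append]
  exact chk_eq (by decide +kernel)

/-! ### rational values -/

/-- The value at `y` is an integer if the generators of `⟨y⟩` have the same value. -/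
theorem rat' {H : Type*} [Group H] [Finite H] {ψ : IrrCharacter H} {y : H}
    (hy : ∀ m : ℕ, m.Coprime (Nat.card H) → (ψ : H → ℂ) (y ^ m) = (ψ : H → ℂ) y) : ∃ k : ℤ, (ψ : H → ℂ) y = k := by
  have hint := GaloisBasic.isIntegral_apply (Core.isIrr_isCharacter ψ.2) y
  refine GaloisBasic.exists_int_of_isIntegral hint (GaloisBasic.exists_rat_of_forall_ringEquiv hint.tower_top ?_)
  intro σ
  obtain ⟨m, hm, hσ⟩ := GaloisBasic.exists_pow_of_ringEquiv (G := H) σ
  rw [hσ _ (Core.isIrr_isCharacter ψ.2)]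
  exact hy m hm

/-- The congruence of rational values. -/
theorem congr' {H : Type*} [Group H] [Finite H] {ψ : IrrCharacter H} {r : ℕ} (hr : r.Prime) {g : H} {j n : ℕ}
    (hj : (g ^ j) ^ (r ^ n) = g ^ (r ^ n)) {a b : ℤ} (ha : (ψ : H → ℂ) g = a) (hb : (ψ : H → ℂ) (g ^ j) = b) :
    (r : ℤ) ∣ a - b := by
  obtain ⟨M, hM⟩ := Blocks.ExistsModular.exists_isPModular hr
  have h1 := H849.OZ.av_sub_mem (χ := ψ) hr hM.2.1.isPrime hM.2.2 g hj
  have h2 : av ψ g - av ψ (g ^ j) = ((a - b : ℤ) : AlgInt) := by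
    apply Subtype.ext
    rw [show ((av ψ g - av ψ (g ^ j) : AlgInt) : ℂ) = (av ψ g : ℂ) - (av ψ (g ^ j) : ℂ) from rfl, av_coe, av_coe, ha, hb]
    push_cast
    rfl
  rwa [h2, int_mem_iff hr hM.2.1.isPrime hM.2.2] at h1

/-- Four classes in the norm of an irreducible character. -/
theorem norm4 {H : Type*} [Group H] [Finite H] {ψ : IrrCharacter H} {ι : Type*} (s : Finset ι) (r : ι → H)
    (hr : ∀ i ∈ s, ∀ j ∈ s, IsConj (r i) (r j) → i = j) (k : ι → ℤ) (hk : ∀ i ∈ s, (ψ : H → ℂ) (r i) = k i) :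
    ∑ i ∈ s, (k i : ℝ) ^ 2 / (cent (r i) : ℝ) ≤ 1 := by
  classical
  have := Fintype.ofFinite H
  let K : ι → Finset H := fun j => Finset.univ.filter fun g => IsConj (r j) g
  have hK : ∀ j g, g ∈ K j ↔ IsConj (r j) g := fun j g => by simp [K]
  have h1 : ∀ j, (K j).card * cent (r j) = Nat.card H := fun j => H849.OZ.card_class (r j)
  have hN : (0 : ℝ) < Nat.card H := by exact_mod_cast Nat.card_pos
  have hc : ∀ j, (0 : ℝ) < cent (r j) := fun j => by
    have : 0 < cent (r j) := by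
      rcases Nat.eq_zero_or_pos (cent (r j)) with h | h
      · have h2 := h1 j
        rw [h, mul_zero] at h2
        exact absurd h2.symm Nat.card_pos.ne'
      · exact h
    exact_mod_cast this
  have h2 : ∑ g ∈ s.biUnion K, Complex.normSq ((ψ : H → ℂ) g) ≤ ∑ g : H, Complex.normSq ((ψ : H → ℂ) g) :=
    Finset.sum_le_sum_of_subset_of_nonneg (Finset.subset_univ _) fun _ _ _ => Complex.normSq_nonneg _
  rw [Finset.sum_biUnion, H695.OneZero.sum_normSq] at h2
  · have h3 : ∀ i ∈ s, ∑ g ∈ K i, Complex.normSq ((ψ : H → ℂ) g) = (Nat.card H : ℝ) * ((k i : ℝ) ^ 2 / (cent (r i) : ℝ)) := by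
      intro i hi
      have h4 : ∀ g ∈ K i, Complex.normSq ((ψ : H → ℂ) g) = (k i : ℝ) ^ 2 := by
        intro g hg
        rw [← Core.classFunction_apply_eq (Core.isIrr_isClassFunction ψ.2) ((hK i g).1 hg), hk i hi, Complex.normSq_intCast,
          pow_two]
      rw [Finset.sum_congr rfl h4, Finset.sum_const, nsmul_eq_mul]
      have h5 : ((K i).card : ℝ) * (cent (r i) : ℝ) = (Nat.card H : ℝ) := by exact_mod_cast h1 i
      rw [← h5]
      field_simp [(hc i).ne']
    rw [Finset.sum_congr rfl h3, ← Finset.mul_sum, ← Nat.card_eq_fintype_card] at h2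
    have h6 : (Nat.card H : ℝ) * ∑ i ∈ s, (k i : ℝ) ^ 2 / (cent (r i) : ℝ) ≤ (Nat.card H : ℝ) * 1 := by
      rw [mul_one]; exact h2
    exact le_of_mul_le_mul_left h6 hN
  · intro i hi j hj hij
    rw [Function.onFun, Finset.disjoint_left]
    intro g hg hg'
    exact hij (hr i hi j hj (((hK i g).1 hg).trans ((hK j g).1 hg').symm))

/-! ### invariant characters of degree 14 -/

/-- the powers of the element `r i` for the classes of its type -/
theorem pow_val_eq (i i' : Fin 21) (hi : ∀ j : Fin 21, ov j = ov i → cv j = cv i → j = i ∨ j = i')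
    (hval : (χ : G → ℂ) (gw (rL i')) = (χ : G → ℂ) (gw (rL i))) (m : ℕ) (hm : m.Coprime (Nat.card G)) :
    (χ : G → ℂ) (gw (rL i) ^ m) = (χ : G → ℂ) (gw (rL i)) := by
  obtain ⟨j, h1, h2, h3⟩ := type (gw (rL i) ^ m)
  rw [order_pow hm, (rep i).1] at h2
  rw [cent_pow hm, (rep i).2] at h3
  rw [← Core.classFunction_apply_eq (Core.isIrr_isClassFunction χ.2) h1]
  rcases hi j h2.symm h3.symm with rfl | rfl
  · rfl
  · exact hval

/-- **No invariant character of degree 14.** -/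
theorem no_inv (hd : charDegree (χ : G → ℂ) = 14) (hinv : ∀ (b : MulAut G) (x : G), (χ : G → ℂ) (b x) = (χ : G → ℂ) x) :
    False := by
  classical
  have hne : (χ : G → ℂ) ≠ 1 := by
    intro h
    have h2 := H686.CharKit.charDegree_irr χ
    rw [hd, h] at h2
    norm_num at h2
  have h1 : (χ : G → ℂ) 1 = ((14 : ℤ) : ℂ) := by
    rw [← H686.CharKit.charDegree_irr χ, hd]
    norm_num
  obtain ⟨v, hv, hlt, h16, h0, -⟩ := key hne
  rw [hd] at hlt h16 h0
  rw [abs_lt] at hlt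
  push_cast at hlt h16 h0
  have hv2 : v = -2 := by omega
  subst hv2
  have hcf := Core.isIrr_isClassFunction χ.2
  have e5 : (χ : G → ℂ) (gw (rL (20 : Fin 21))) = (χ : G → ℂ) (gw (rL (19 : Fin 21))) := by
    rw [Core.classFunction_apply_eq hcf sg5, hinv]
  have e10 : (χ : G → ℂ) (gw (rL (17 : Fin 21))) = (χ : G → ℂ) (gw (rL (15 : Fin 21))) := by
    rw [Core.classFunction_apply_eq hcf sg10, hinv]
  have p5 := pow_val_eq (χ := χ) 19 20 (by decide +kernel) e5
  have p10 := pow_val_eq (χ := χ) 15 17 (by decide +kernel) e10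
  obtain ⟨y, hy⟩ := rat' (ψ := χ) p5
  obtain ⟨q, hq⟩ := rat' (ψ := χ) p10
  have o19 : gw (rL (19 : Fin 21)) ^ 5 = 1 := by
    have h := pow_orderOf_eq_one (gw (rL (19 : Fin 21)))
    rw [(rep 19).1] at h
    exact h
  have o15 : gw (rL (15 : Fin 21)) ^ 10 = 1 := by
    have h := pow_orderOf_eq_one (gw (rL (15 : Fin 21)))
    rw [(rep 15).1] at h
    exact h
  -- modulo 5
  have c1 : (5 : ℤ) ∣ y - 14 := by
    have := congr' (ψ := χ) (r := 5) (by norm_num) (g := gw (rL (19 : Fin 21))) (j := 0) (n := 1)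
      (by rw [pow_zero, one_pow, pow_one, o19]) hy (by rw [pow_zero]; exact h1)
    exact_mod_cast this
  have c2 : (5 : ℤ) ∣ q - (-2) := by
    have := congr' (ψ := χ) (r := 5) (by norm_num) (g := gw (rL (15 : Fin 21))) (j := 5) (n := 1)
      (by rw [← pow_mul, pow_one, show 5 * 5 = 10 * 2 + 5 from rfl, pow_add, pow_mul, o15, one_pow, one_mul]) hq
      (by rw [← Core.classFunction_apply_eq hcf pow10]; exact hv)
    exact_mod_cast this
  -- modulo 2
  have c3 : (2 : ℤ) ∣ q - y := by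
    have := congr' (ψ := χ) (r := 2) (by norm_num) (g := gw (rL (15 : Fin 21))) (j := 6) (n := 1)
      (by rw [← pow_mul, pow_one, show 6 * 2 = 10 + 2 from rfl, pow_add, o15, one_mul]) hq (b := y) (by
        rw [show 6 = 2 * 3 from rfl, pow_mul, sq10, ← hy]
        have h2 : gw (rL (19 : Fin 21)) ^ 3 = gw (rL (19 : Fin 21)) ^ 13 := by
          rw [show 13 = 5 * 2 + 3 from rfl, pow_add, pow_mul, o19, one_pow, one_mul]
        rw [h2]
        exact p5 13 (by rw [card_G]; decide))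
    exact_mod_cast this
  -- the norm
  have hn := norm4 (ψ := χ) ({15, 17, 19, 20} : Finset (Fin 21)) (fun i => gw (rL i)) (fun i _ j _ h => classes.2 i j h)
    (fun i => if i = 15 ∨ i = 17 then q else y) (by
      intro i hi
      simp only [Finset.mem_insert, Finset.mem_singleton] at hi
      rcases hi with rfl | rfl | rfl | rfl
      · exact hq
      · exact e10.trans hq
      · exact hy
      · exact e5.trans hy)
  simp only [(rep _).2] at hn
  have hs : ∑ i ∈ ({15, 17, 19, 20} : Finset (Fin 21)), (((if i = 15 ∨ i = 17 then q else y : ℤ) : ℝ) ^ 2 / (cv i : ℝ)) =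
      2 * (q : ℝ) ^ 2 / 10 + 2 * (y : ℝ) ^ 2 / 50 := by
    have v15 : cv ((15 : Fin 21) : ℕ) = 10 := by decide +kernel
    have v17 : cv ((17 : Fin 21) : ℕ) = 10 := by decide +kernel
    have v19 : cv ((19 : Fin 21) : ℕ) = 50 := by decide +kernel
    have v20 : cv ((20 : Fin 21) : ℕ) = 50 := by decide +kernel
    rw [Finset.sum_insert (by decide), Finset.sum_insert (by decide), Finset.sum_insert (by decide),
      Finset.sum_singleton, v15, v17, v19, v20, if_pos (by decide), if_pos (by decide), if_neg (by decide),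
      if_neg (by decide)]
    push_cast
    ring
  rw [hs] at hn
  have h5 : 5 * q ^ 2 + y ^ 2 ≤ 25 := by
    have : (5 * (q : ℝ) ^ 2 + (y : ℝ) ^ 2) ≤ 25 := by linarith
    exact_mod_cast this
  have hq2 : q ≤ 2 ∧ -2 ≤ q := ⟨by nlinarith, by nlinarith⟩
  have hy2 : y ≤ 5 ∧ -5 ≤ y := ⟨by nlinarith, by nlinarith⟩
  have hq3 : q = -2 := by omega
  subst hq3
  have : y = 4 ∨ y = -1 := by omega
  rcases this with rfl | rfl <;> omega

end Cfsg.Agent.H893.S8.JTwoOut
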