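import Cfsg.Agent.H893.S8.JTwoNoInv

/-!
# S4908, `J₂` : the piece OUT, assembly from the degree 14 (helper893)
-/

set_option autoImplicit false

namespace Cfsg.Agent.H893.S8.JTwoOut

open Cfsg Cfsg.Spor Subgroup
open Cfsg.Agent.SporadicA.J2Hundred (G simple card_G)
open Cfsg.Agent.H704.S8 (OutRow3)

universe v

theorem center_G : Subgroup.center G = ⊥ := by
  have hs := simple
  have hn : (Subgroup.center G).Normal := inferInstance
  rcases hn.eq_bot_or_eq_top with h | h
  · exact h
  · exfalso
    have hcomm : ∀ a b : G, a * b = b * a := fun a b => by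
      have : b ∈ Subgroup.center G := by rw [h]; trivial
      exact Subgroup.mem_center_iff.1 this a
    let _ : CommGroup G := { (inferInstance : Group G) with mul_comm := hcomm }
    have h1 : (Nat.card G).Prime := IsSimpleGroup.prime_card
    rw [card_G] at h1
    norm_num at h1

theorem index_G : (MulAut.conj : G →* MulAut G).range.index = 2 := by
  obtain ⟨f⟩ := Cfsg.Agent.J2.HundredGens.J2_iso Cfsg.Agent.S1619.result.2.2.2
  rw [← H55.OutGen.card_out_eq_index, ← H55.OutGen.card_out_congr f]
  exact S2066.result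

/-- **The degrees differ**, given the degree 14. -/
theorem ne_of (h14 : 14 ∈ charDegrees G) : charDegrees G ≠ charDegrees (MulAut G) := by
  intro heq
  have : Finite G := Nat.finite_of_card_ne_zero (by rw [card_G]; norm_num)
  rw [heq] at h14
  rcases H469.S8.deg_aut_inv center_G index_G h14 with ⟨θ, h1, hinv⟩ | ⟨f, hf, h2⟩
  · refine no_inv (χ := θ) ?_ hinv
    have h2 := H686.CharKit.charDegree_irr θ
    rw [h1] at h2
    exact_mod_cast h2
  · have h3 : f = 7 := by omega
    subst h3
    have := H409.S8.JTwo.fourteen_le hf (by norm_num)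
    omega

/-- **OUT for `J₂`**, given the degree 14. -/
theorem out_of (h14 : 14 ∈ charDegrees G) {X : Type v} [Group X] (h : IsoJ2 X) : OutRow3 2 X := by
  obtain ⟨e⟩ := h
  obtain ⟨f⟩ := Cfsg.Agent.J2.HundredGens.J2_iso Cfsg.Agent.S1619.result.2.2.2
  refine ⟨?_, fun _ => ?_⟩
  · rw [← H55.OutGen.card_out_eq_index, H55.OutGen.card_out_congr (e.trans f), H55.OutGen.card_out_eq_index, index_G]
  · rw [Cfsg.Agent.H424.DegTools.charDegrees_congr (e.trans f),
      Cfsg.Agent.H424.DegTools.charDegrees_congr (MulAut.congr (e.trans f))]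
    exact ne_of h14

end Cfsg.Agent.H893.S8.JTwoOut
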